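import Cfsg.Agent.Mult93.G24.Witness
import Cfsg.Prelude.Def_KGroupFacts

/-!
Stem extensions of the Chevalley group of type G2 over four elements have kernels of order at most two
(helper93).
-/

set_option autoImplicit false

namespace Cfsg.Agent.Mult93.G24

open Cfsg Cfsg.Lie Cfsg.Agent.ChevCore Cfsg.Agent.ChevGroup
open Cfsg.Agent.KnownSimple.Steinberg Cfsg.Agent.KnownSimple.Steinberg.Gen
open scoped commutatorElement

universe u

theorem closed_all {F : Type*} [Field F] [Fintype F] (hF : Fintype.card F = 4) {w : F}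
    (hw : ∀ x : F, x = 0 ∨ x = 1 ∨ x = w ∨ x = w + 1) {P : F → Prop} (h1 : P 1) (hP : P w)
    (hadd : ∀ x y, P x → P y → P (x + y)) (x : F) : P x := by
  rcases hw x with rfl | rfl | rfl | rfl
  · simpa [L34.add_self hF] using hadd _ _ h1 h1
  · exact h1
  · exact hP
  · exact hadd _ _ hP h1

theorem exists_surjection {F : Type u} [Field F] [Fintype F] (hF : Fintype.card F = 4)
    {Γ : Type u} [Group Γ] [Finite Γ] (σ : Γ →* ↥(chevG2.group F)) (hσ : IsStemExtension σ) :
    ∃ π : Multiplicative (ZMod 2) →* σ.ker, Function.Surjective π := by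
  classical
  have hC : CommGood chevG2 := packG2.comm
  have hS := packG2.dok
  have hD := hC.toGood
  obtain ⟨hsurj, hcen, hcom⟩ := hσ
  have hker : ((chevG2.group F).subtype.comp σ).ker = σ.ker :=
    MonoidHom.ker_comp_of_injective σ _ (Subgroup.subtype_injective _)
  let E : CExt chevG2 F Γ :=
    { π := (chevG2.group F).subtype.comp σ
      central := hker.le.trans hcen
      ℓ := fun r t => if hr : r < chevG2.nroots then
        Function.surjInv hsurj ⟨xg chevG2 F r t, xg_mem_group hD hr t⟩ else 1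
      π_ℓ := fun r hr t => by
        rw [MonoidHom.comp_apply, dif_pos hr, Function.surjInv_eq hsurj]
        rfl }
  obtain ⟨ω, -, hall⟩ := L34.exists_omega hF
  have h9 : 9 < chevG2.nroots := by decide
  have hG : ∀ u v, Commute (xg chevG2 F 9 u) (xg chevG2 F 9 v) :=
    commute_xg hC h9 h9 (Or.inl rfl)
  have hb : ∀ u v, ⁅E.ℓ 9 u, E.ℓ 9 v⁆ ∈ σ.ker := fun u v => by
    rw [← hker, MonoidHom.mem_ker, map_commutatorElement, commutatorElement_eq_one_iff_commute]
    show Commute (E.π _) (E.π _)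
    rw [E.π_ℓ 9 h9, E.π_ℓ 9 h9]
    exact hG u v
  set c := ⁅E.ℓ 9 1, E.ℓ 9 ω⁆
  have hc2 : c ^ 2 = 1 := by
    rw [sq, ← bracket_add_left h9 h9 hG hD, L34.add_self hF, commutatorElement_eq_one_iff_commute]
    exact E.π_eq_zero_commute h9 hD (E.π_ℓ 9 h9 0) _
  set K := Subgroup.zpowers c
  have hcK : c ∈ K := Subgroup.mem_zpowers c
  have hK9 : ∀ u v, ⁅E.ℓ 9 u, E.ℓ 9 v⁆ ∈ K := by
    intro u v
    refine closed_all hF hall (P := fun u => ⁅E.ℓ 9 u, E.ℓ 9 v⁆ ∈ K) ?_ ?_ (fun x y hx hy => ?_) u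
    · refine closed_all hF hall (P := fun v => ⁅E.ℓ 9 1, E.ℓ 9 v⁆ ∈ K) ?_ hcK (fun x y hx hy => ?_) v
      · rw [commutatorElement_self]; exact one_mem _
      · rw [bracket_add_right h9 h9 hG hD]; exact mul_mem hx hy
    · refine closed_all hF hall (P := fun v => ⁅E.ℓ 9 ω, E.ℓ 9 v⁆ ∈ K) ?_ ?_ (fun x y hx hy => ?_) v
      · rw [← commutatorElement_inv]; exact inv_mem hcK
      · rw [commutatorElement_self]; exact one_mem _
      · rw [bracket_add_right h9 h9 hG hD]; exact mul_mem hx hy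
    · rw [bracket_add_left h9 h9 hG hD]; exact mul_mem hx hy
  have hKker : K ≤ σ.ker := Subgroup.zpowers_le.2 (hb 1 ω)
  haveI : K.Normal := ⟨fun n hn g => by
    rwa [Subgroup.mem_center_iff.1 (hcen (hKker hn)) g, mul_inv_cancel_right]⟩
  let σ' : Γ ⧸ K →* ↥(chevG2.group F) := QuotientGroup.lift K σ hKker
  have hcen' : σ'.ker ≤ Subgroup.center (Γ ⧸ K) := by
    intro x hx
    obtain ⟨x, rfl⟩ := QuotientGroup.mk'_surjective K x
    refine Subgroup.mem_center_iff.2 fun y => ?_
    obtain ⟨y, rfl⟩ := QuotientGroup.mk'_surjective K y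
    rw [← map_mul, ← map_mul, Subgroup.mem_center_iff.1 (hcen hx) y]
  have hker' : ((chevG2.group F).subtype.comp σ').ker = σ'.ker :=
    MonoidHom.ker_comp_of_injective σ' _ (Subgroup.subtype_injective _)
  let E' : CExt chevG2 F (Γ ⧸ K) :=
    { π := (chevG2.group F).subtype.comp σ'
      central := hker'.le.trans hcen'
      ℓ := fun r t => QuotientGroup.mk' K (E.ℓ r t)
      π_ℓ := fun r hr t => E.π_ℓ r hr t }
  have h := boundK_eq
  simp only [boundK, kallUpTo_iff, forceN_eq, Bool.and_eq_true, Bool.or_eq_true, kall_iff,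
    Nat.blt_eq, Nat.beq_eq, commW_std, List.isEmpty_iff, kanyUpTo_iff] at h
  obtain ⟨⟨hwords, hcommK⟩, h⟩ := h
  have hp : ∀ z : ℤ, z % ((2 : ℕ) : ℤ) ≠ 0 → (z : F) ≠ 0 := fun z hz => by
    rw [odd_cast hF hz]; exact one_ne_zero
  have hself : ∀ r < chevG2.nroots, ∀ u v, Commute (E'.ℓ r u) (E'.ℓ r v) := by
    intro r hr u v
    rcases (h r hr).1.2 with hsh | ⟨a, ha, b, hb', hw⟩
    · simp only [shortK, kanyUpTo_iff, Nat.beq_eq] at hsh
      obtain ⟨k, hk, e⟩ := hsh
      have hw : ∀ i ∈ words.getD k [], i < chevG2.rank := fun i hi => hwords k hk i hi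
      set w := words.getD k []
      have hπ : ∀ t, E'.π (E'.N w * E'.ℓ 9 t * (E'.N w)⁻¹) = E'.π (E'.ℓ r t) := fun t => by
        rw [E'.π_N_conj hD hw h9 (E'.π_ℓ 9 h9 t), E'.π_ℓ r hr, e, eta_one hF, one_mul]
      refine E'.commute_congr (hπ u).symm (hπ v).symm ?_
      rw [← MulAut.conj_apply, ← MulAut.conj_apply]
      refine Commute.map ?_ _
      rw [← commutatorElement_eq_one_iff_commute]
      show ⁅QuotientGroup.mk' K (E.ℓ 9 u), QuotientGroup.mk' K (E.ℓ 9 v)⁆ = 1
      rw [← map_commutatorElement]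
      exact (QuotientGroup.eq_one_iff _).2 (hK9 u v)
    · refine commute_of_witM hC E' hp (fun x hx y hy hxy hk => ?_) hr hr ha hb' hw u v
      exact commute_of_sep hx hy (commute_xg hC hx hy hxy) hD (sep_of_sepM (m := 3) hF hD E' hk)
  have hcomm := comm_of_commK (m := 3) hF hC hp E' (fun _ => hself) hcommK
  have hscal : ∀ r < chevG2.nroots, Scal E' r :=
    fun r hr => scal_of_scalM (m := 3) hF hD E' (h r hr).1.1
  have hrel := allRel_of_equivariant E' hS hC hcomm (canPre E' hS hscal hcomm) rfl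
    (fun _ _ hg _ hv a => canY_conj E' hscal hv hg a)
    (fun r hr s hs h1 h2 he => by
      rcases (((h r hr).2 s hs).resolve_left fun e => e.elim h1 h2).2 with (hsep | he') | hl
      · exact Or.inl (Or.inl (sep_of_sepM (m := 3) hF hD E' hsep))
      · exact absurd he' he
      · obtain ⟨⟨⟨⟨⟨⟨hlong, hlen⟩, hi⟩, hj⟩, hz⟩, hfr⟩, hfs⟩ := hl
        obtain ⟨⟨k, z, i, j⟩, e⟩ := List.length_eq_one_iff.1 hlen
        simp only [headW, commW_std, e, List.headD_cons, Bool.not_eq_true', ← Bool.not_eq_true,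
          zEq_iff] at hi hj hz hfr hfs
        subst hi hj
        have hk : k < chevG2.nroots := (hD.commTerms_coef hr hs (c := (k, z, 1, 1)) (by
          show _ ∈ chevG2.commTerms r s
          rw [e]; exact List.mem_cons_self ..)).1
        exact Or.inr (rel_single hF E' hcomm hscal hr hs h1 h2 e hz
          (hcomm s hs k hk (fixK_iff.1 hfs)) (long_prod hF E' hcomm hr hs hlong)))
    (fun r hr s hs h1 h2 => (((h r hr).2 s hs).resolve_left fun e => e.elim h1 h2).1)
  let R := (canPre E' hS hscal hcomm).toBase hS hrel conjCertG2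
  set H := Subgroup.closure {g | ∃ r t, r < chevG2.nroots ∧ g = R.y r t}
  have hHmap : H.map σ' = ⊤ := by
    refine Subgroup.map_injective (Subgroup.subtype_injective (chevG2.group F)) ?_
    rw [Subgroup.map_map, MonoidHom.map_closure, ← MonoidHom.range_eq_map, Subgroup.range_subtype]
    conv_rhs => rw [group_eq_closure_xg hD]
    congr 1
    ext g
    constructor
    · rintro ⟨_, ⟨r, t, hr, rfl⟩, rfl⟩
      exact ⟨r, t, hr, R.π_y r hr t⟩
    · rintro ⟨r, t, hr, rfl⟩
      exact ⟨_, ⟨r, t, hr, rfl⟩, R.π_y r hr t⟩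
  have htop : H = ⊤ := by
    have hdec : ∀ g : Γ ⧸ K, ∃ a ∈ H, ∃ z ∈ σ'.ker, g = a * z := by
      intro g
      obtain ⟨a, ha, e⟩ : σ' g ∈ H.map σ' := hHmap ▸ Subgroup.mem_top _
      exact ⟨a, ha, a⁻¹ * g, by simp [MonoidHom.mem_ker, e], by group⟩
    have hHc : commutator (Γ ⧸ K) ≤ H := by
      rw [commutator_def, Subgroup.commutator_le]
      intro g _ g' _
      obtain ⟨a, ha, z, hz, rfl⟩ := hdec g
      obtain ⟨b, hb, w, hw, rfl⟩ := hdec g'
      rw [E'.comm_congr (v' := a) (w' := b) (by rw [map_mul]; simp [E', MonoidHom.mem_ker.1 hz])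
        (by rw [map_mul]; simp [E', MonoidHom.mem_ker.1 hw])]
      exact mul_mem (mul_mem (mul_mem ha hb) (inv_mem ha)) (inv_mem hb)
    rw [eq_top_iff]
    intro g _
    obtain ⟨a, ha, z, hz, rfl⟩ := hdec g
    refine mul_mem ha (hHc ?_)
    obtain ⟨z, rfl⟩ := QuotientGroup.mk'_surjective K z
    have hmem : QuotientGroup.mk' K z ∈ (commutator Γ).map (QuotientGroup.mk' K) :=
      Subgroup.mem_map_of_mem _ (hcom hz)
    rwa [commutator_def, Subgroup.map_commutator,
      Subgroup.map_top_of_surjective _ (QuotientGroup.mk'_surjective K), ← commutator_def] at hmem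
  obtain ⟨hfin, hle⟩ := R.card_ker_le hS TypeG2.model htop
    (R.hh_mul hS TypeG2.model htop (nbrOK_of_mem (by simp))) elimG2 one_pos
  rw [Nat.gcd_one_left] at hle
  haveI : Finite ↥R.π.ker := hfin
  have hbot : R.π.ker = ⊥ := Subgroup.eq_bot_of_card_le _ hle
  have hsub : σ.ker ≤ K := fun x hx => by
    have h1 : QuotientGroup.mk' K x ∈ R.π.ker := by
      show (chevG2.group F).subtype (σ x) = 1
      rw [MonoidHom.mem_ker.1 hx, map_one]
    rw [hbot, Subgroup.mem_bot] at h1
    exact (QuotientGroup.eq_one_iff x).1 h1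
  let g : σ.ker := ⟨c, hb 1 ω⟩
  have hg2 : g ^ 2 = 1 := Subtype.ext hc2
  refine ⟨MonoidHom.mk' (fun v => g ^ v.toAdd.val) fun v w => ?_, fun x => ?_⟩
  · show g ^ (v.toAdd + w.toAdd).val = _
    rw [ZMod.val_add, ← pow_eq_pow_mod _ hg2, pow_add]
  · obtain ⟨k, hk⟩ := hsub x.2
    refine ⟨Multiplicative.ofAdd (k : ZMod 2), Subtype.ext ?_⟩
    show c ^ ((k : ZMod 2)).val = x
    rw [← hk]
    show c ^ ((k : ZMod 2)).val = c ^ k
    rw [← zpow_natCast, ZMod.val_intCast, ← zpow_eq_zpow_emod' k (by exact_mod_cast hc2)]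

end Cfsg.Agent.Mult93.G24
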