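import Cfsg.Agent.Mult93.G24.Check

/-!
Evaluation of the checks: permutations, additivity (helper93).
-/

set_option autoImplicit false

namespace Cfsg.Agent.Mult93.G24

open Cfsg.Agent.ChevCore

theorem permK_all : kallUpTo 12 permK = true := by decide +kernel

theorem addK7 : addK 7 = true := by decide +kernel

theorem addK6 : addK 6 = true := by decide +kernel

theorem coverK_eq : coverK = true := by decide +kernel

theorem nontrivK_eq : nontrivK = true := by decide +kernel

end Cfsg.Agent.Mult93.G24
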