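import Cfsg.Agent.Mult93.G24.Check

/-!
Evaluation of the checks: commutator relators, part 2 (helper93).
-/

set_option autoImplicit false

namespace Cfsg.Agent.Mult93.G24

theorem relK6 : relK 2 3 = true := by decide +kernel

theorem relK7 : relK 2 5 = true := by decide +kernel

end Cfsg.Agent.Mult93.G24
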