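import Cfsg.Agent.Mult93.G24.Cover
import Cfsg.Agent.Mult93.G24.Perm
import Cfsg.Agent.Mult93.G24.Conj0
import Cfsg.Agent.Mult93.G24.Conj1
import Cfsg.Agent.Mult93.G24.Rel0
import Cfsg.Agent.Mult93.G24.Rel1
import Cfsg.Agent.Mult93.G24.Rel2
import Cfsg.Agent.Mult93.G24.Rel3

/-!
The double cover of the Chevalley group of type G2 over four elements, certified (helper93).
-/

set_option autoImplicit false

namespace Cfsg.Agent.Mult93.G24

open Cfsg Cfsg.Lie Cfsg.Agent.ChevCore

universe u

theorem exists_cover {F : Type u} [Field F] [Fintype F] (hF : Fintype.card F = 4) :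
    ∃ (Γ : Type u) (_ : Group Γ) (_ : Finite Γ) (σ : Γ →* ↥(chevG2.group F)),
      Cfsg.IsStemExtension σ ∧ Nonempty (σ.ker ≃* Multiplicative (ZMod 2)) := by
  refine exists_cover_of hF (fun r hr => (kallUpTo_iff _ _).1 permK_all r hr) ?_ ⟨addK7, addK6⟩ ?_
    coverK_eq nontrivK_eq
  · intro p hp
    simp only [reps, List.mem_cons, List.not_mem_nil, or_false] at hp
    rcases hp with rfl | rfl | rfl | rfl | rfl | rfl | rfl | rfl | rfl | rfl
    exacts [relK0, relK1, relK2, relK3, relK4, relK5, relK6, relK7, relK8, relK9]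
  · intro i hi r hr
    interval_cases i
    exacts [(kallUpTo_iff _ _).1 conjK0_all r hr, (kallUpTo_iff _ _).1 conjK1_all r hr]

end Cfsg.Agent.Mult93.G24
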