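import Cfsg.Agent.Mult93.G24.Data
import Cfsg.Agent.Lib.ChevCore.CommDefs
import Cfsg.Agent.KnownSimple.Steinberg.Gen.PackG2

/-!
The decidable checks on the permutations of `8064` points (helper93).
-/

set_option autoImplicit false

namespace Cfsg.Agent.Mult93.G24

open Cfsg.Lie Cfsg.Agent.ChevCore

/-- the number of the table of `(r, e)` -/
def slot (r e : Nat) : Nat := 4 * r + e % 4

/-- the table of `(r, e)` -/
noncomputable def tab (r e : Nat) : Nat := tabs.getD (slot r e) 0

/-- the central permutation -/
def cyc (i : Nat) : Nat := bif Nat.beq (i % 2) 0 then i + 1 else i - 1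

/-- image under a table, which lists the images of the even points -/
def step (T i : Nat) : Nat :=
  bif Nat.beq (i % 2) 0 then (T >>> (16 * (i / 2))) &&& 65535
  else cyc ((T >>> (16 * (i / 2))) &&& 65535)

/-- image under the permutation of `(r, e)` -/
noncomputable def img (r e i : Nat) : Nat := step (tab r e) i

/-- image under a list of tables, the rightmost first -/
noncomputable def evT (L : List Nat) (i : Nat) : Nat :=
  List.rec i (fun T _ acc => forceN acc fun j => step T j) L

/-- evaluates the tables of a word -/
noncomputable def withTabs : List (Nat × Nat) → (List Nat → Bool) → Bool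
  | [], k => k []
  | p :: w, k => forceN (tab p.1 p.2) fun T => withTabs w fun L => k (T :: L)

/-- the word is a power of the central permutation -/
noncomputable def constK (w : List (Nat × Nat)) : Bool :=
  withTabs w fun L => forceN (evT L 0) fun k => Nat.blt k 2 &&
    kallUpTo 4032 fun b => Nat.beq (evT L (2 * b)) (2 * b + k)

/-- the tables are permutations and squares of root elements are central -/
noncomputable def permK (r : Nat) : Bool :=
  kallUpTo 4 fun e => constK [(r, e), (r, e)] &&
    forceN (tab r e) fun T => kallUpTo 4032 fun b =>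
      forceN ((T >>> (16 * b)) &&& 65535) fun j => Nat.blt j 8064

/-- multiplication of the field with four elements on `0, 1, 2, 3` -/
def mulF (a b : Nat) : Nat :=
  [0, 0, 0, 0, 0, 1, 2, 3, 0, 2, 3, 1, 0, 3, 1, 2].getD (4 * a + b) 0

/-- powers in the field with four elements -/
def powF (a : Nat) : Nat → Nat
  | 0 => 1
  | n + 1 => mulF (powF a n) a

/-- the terms of the commutator formula with odd coefficient -/
def oddTerms (r s : Nat) : List (Nat × Nat × Nat) :=
  (chevG2.commTerms r s).filterMap fun c =>
    bif c.2.1 % 2 == 0 then none else some (c.1, c.2.2.1, c.2.2.2)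

/-- the word of a relator of the commutator formula -/
def relW (r s t u : Nat) : List (Nat × Nat) :=
  [(s, u), (r, t), (s, u), (r, t)] ++
    (oddTerms r s).reverse.map fun c => (c.1, mulF (powF t c.2.1) (powF u c.2.2))

/-- the relators of a pair are central -/
noncomputable def relK (r s : Nat) : Bool :=
  kallUpTo 4 fun t => kallUpTo 4 fun u => constK (relW r s t u)

/-- the addition relators of a root are central -/
noncomputable def addK (r : Nat) : Bool :=
  kallUpTo 4 fun t => kallUpTo 4 fun u => constK [(r, t), (r, u), (r, t ^^^ u)]

/-- the two simple roots -/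
def simp2 (i : Nat) : Nat := [7, 6].getD i 0

/-- the two simple reflections -/
def sig (i r : Nat) : Nat :=
  ([[0, 5, 3, 2, 7, 1, 10, 4, 9, 8, 6, 11], [1, 0, 2, 4, 3, 6, 5, 8, 7, 9, 11, 10]].getD i []).getD r 0

/-- the lift of the simple reflection carries the root elements to those of the image -/
noncomputable def conjK (i r : Nat) : Bool :=
  forceN (simp2 i) fun a => forceN (sig i r) fun r' => kallUpTo 4 fun e =>
    constK [(a, 1), (11 - a, 1), (a, 1), (r, e), (a, 1), (11 - a, 1), (a, 1), (r', e)]

/-- representatives of the pairs of roots -/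
def reps : List (Nat × Nat) :=
  [(0, 1), (0, 2), (0, 4), (0, 6), (0, 8), (2, 0), (2, 3), (2, 5), (2, 7), (2, 10)]

/-- words in the two reflections -/
def sigWords : List (List Nat) := [[], [0], [1], [1, 0], [0, 1], [0, 1, 0], [1, 0, 1], [1, 0, 1, 0],
  [0, 1, 0, 1], [0, 1, 0, 1, 0], [1, 0, 1, 0, 1], [1, 0, 1, 0, 1, 0]]

/-- image of a root under a word of reflections -/
def sigW (w : List Nat) (r : Nat) : Nat := w.foldr sig r

/-- every pair is an image of a representative, every root of one of the two simple ones, and the
reflections respect the commutator formula -/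
noncomputable def coverK : Bool :=
  (kall sigWords fun w => kall w fun i => Nat.blt i 2) &&
  (kallUpTo 2 fun i => kallUpTo 12 fun r => Nat.blt (sig i r) 12) &&
  (kallUpTo 2 fun i => kallUpTo 12 fun r => kallUpTo 12 fun s =>
    Nat.beq s r || Nat.beq s (11 - r) ||
      ((oddTerms r s).map (fun c => (sig i c.1, c.2.1, c.2.2)) == oddTerms (sig i r) (sig i s) &&
        !(Nat.beq (sig i s) (sig i r)) && !(Nat.beq (sig i s) (11 - sig i r)) &&
        kall (oddTerms r s) fun c => Nat.blt c.1 12)) &&
  (kallUpTo 12 fun r => kany sigWords fun w => Nat.beq (sigW w 7) r || Nat.beq (sigW w 6) r) &&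
  kallUpTo 12 fun r => kallUpTo 12 fun s => Nat.beq s r || Nat.beq s (11 - r) ||
    kany reps fun p => kany sigWords fun w => Nat.beq (sigW w p.1) r && Nat.beq (sigW w p.2) s

/-- the bracket of two elements of a short root group is the central permutation, and a root element
moves a block -/
noncomputable def nontrivK : Bool :=
  (forceN (tab 9 1) fun A => forceN (tab 9 2) fun B => kallUpTo 8064 fun i =>
    Nat.beq (step A (step B i)) (cyc (step B (step A i)))) &&
    kanyUpTo 4032 fun b => !(Nat.beq (img 7 1 (2 * b) / 2) b)

end Cfsg.Agent.Mult93.G24
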