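import Cfsg.Agent.Mult93.G24.Check
import Cfsg.Agent.Mult93.L34.Cocycle

/-!
The field with four elements on the numbers `0, 1, 2, 3` (helper93).
-/

set_option autoImplicit false

namespace Cfsg.Agent.Mult93.G24

universe u

variable {F : Type u} [Field F] [Fintype F] (hF : Fintype.card F = 4)
include hF

theorem exists_val : ∃ ν : F → ℕ, (∀ x, ν x < 4) ∧ Function.Injective ν ∧ ν 0 = 0 ∧ ν 1 = 1 ∧
    (∀ e < 4, ∃ x, ν x = e) ∧ (∀ x y, ν (x + y) = ν x ^^^ ν y) ∧
    (∀ x y, ν (x * y) = mulF (ν x) (ν y)) := by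
  classical
  obtain ⟨w, hw, hall⟩ := L34.exists_omega hF
  let φ : Fin 4 → F := ![0, 1, w, w + 1]
  have hsurj : Function.Surjective φ := fun x => by
    rcases hall x with rfl | rfl | rfl | rfl
    exacts [⟨0, rfl⟩, ⟨1, rfl⟩, ⟨2, rfl⟩, ⟨3, rfl⟩]
  let e := Equiv.ofBijective φ ((Fintype.bijective_iff_surjective_and_card φ).2 ⟨hsurj, by simp [hF]⟩)
  have h2 := L34.two_zero hF
  have hadd : ∀ a b : Fin 4, ∀ h : a.val ^^^ b.val < 4, φ ⟨a.val ^^^ b.val, h⟩ = φ a + φ b := by
    intro a b h
    fin_cases a <;> fin_cases b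
    · show (0 : F) = 0 + 0; ring
    · show (1 : F) = 0 + 1; ring
    · show w = 0 + w; ring
    · show w + 1 = 0 + (w + 1); ring
    · show (1 : F) = 1 + 0; ring
    · show (0 : F) = 1 + 1; linear_combination -h2
    · show w + 1 = 1 + w; ring
    · show w = 1 + (w + 1); linear_combination -h2
    · show w = w + 0; ring
    · show w + 1 = w + 1; ring
    · show (0 : F) = w + w; linear_combination -w * h2
    · show (1 : F) = w + (w + 1); linear_combination -w * h2
    · show w + 1 = w + 1 + 0; ring
    · show w = w + 1 + 1; linear_combination -h2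
    · show (1 : F) = w + 1 + w; linear_combination -w * h2
    · show (0 : F) = w + 1 + (w + 1); linear_combination -(w + 1) * h2
  have hmul : ∀ a b : Fin 4, ∀ h : mulF a.val b.val < 4, φ ⟨mulF a.val b.val, h⟩ = φ a * φ b := by
    intro a b h
    fin_cases a <;> fin_cases b
    · show (0 : F) = 0 * 0; ring
    · show (0 : F) = 0 * 1; ring
    · show (0 : F) = 0 * w; ring
    · show (0 : F) = 0 * (w + 1); ring
    · show (0 : F) = 1 * 0; ring
    · show (1 : F) = 1 * 1; ring
    · show w = 1 * w; ring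
    · show w + 1 = 1 * (w + 1); ring
    · show (0 : F) = w * 0; ring
    · show w = w * 1; ring
    · show w + 1 = w * w; linear_combination -hw + (w + 1) * h2
    · show (1 : F) = w * (w + 1); linear_combination -hw + h2
    · show (0 : F) = (w + 1) * 0; ring
    · show w + 1 = (w + 1) * 1; ring
    · show (1 : F) = (w + 1) * w; linear_combination -hw + h2
    · show w = (w + 1) * (w + 1); linear_combination -hw
  refine ⟨fun x => (e.symm x).val, fun x => (e.symm x).2, Fin.val_injective.comp e.symm.injective,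
    (by show (e.symm 0).val = 0; rw [e.symm_apply_eq.2 (show (0 : F) = e 0 from rfl)]; rfl),
    (by show (e.symm 1).val = 1; rw [e.symm_apply_eq.2 (show (1 : F) = e 1 from rfl)]; rfl),
    fun k hk => ⟨e ⟨k, hk⟩, by simp⟩, fun x y => ?_, fun x y => ?_⟩
  · have h : ∀ a b : Fin 4, a.val ^^^ b.val < 4 := by decide
    refine congrArg Fin.val ((e.symm_apply_eq (x := x + y) (y := ⟨_, h (e.symm x) (e.symm y)⟩)).2 ?_)
    rw [show ∀ z, e z = φ z from fun _ => rfl, hadd, show φ (e.symm x) = x from e.apply_symm_apply x,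
      show φ (e.symm y) = y from e.apply_symm_apply y]
  · have h : ∀ a b : Fin 4, mulF a.val b.val < 4 := by decide
    refine congrArg Fin.val ((e.symm_apply_eq (x := x * y) (y := ⟨_, h (e.symm x) (e.symm y)⟩)).2 ?_)
    rw [show ∀ z, e z = φ z from fun _ => rfl, hmul, show φ (e.symm x) = x from e.apply_symm_apply x,
      show φ (e.symm y) = y from e.apply_symm_apply y]

end Cfsg.Agent.Mult93.G24
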