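import Cfsg.Agent.Mult93.G24.Group
import Cfsg.Agent.Mult93.G24.Field
import Cfsg.Agent.Mult93.G23.Cover
import Cfsg.Agent.ChevGroup.Mat.SimpleG2
import Cfsg.Prelude.Def_KGroupFacts

/-!
The double cover of the Chevalley group of type G2 over four elements (helper93).
-/

set_option autoImplicit false

namespace Cfsg.Agent.Mult93.G24

open Cfsg Cfsg.Lie Cfsg.Agent.ChevCore Cfsg.Agent.ChevGroup
open Cfsg.Agent.KnownSimple.Steinberg Cfsg.Agent.KnownSimple.Steinberg.Gen
open scoped commutatorElement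

universe u

theorem foldr_induction {P : ℕ → ℕ → Prop} (h : ∀ i < 2, ∀ r s, P r s → P (sig i r) (sig i s))
    {w : List ℕ} (hw : ∀ i ∈ w, i < 2) {r s : ℕ} (h0 : P r s) : P (sigW w r) (sigW w s) := by
  induction w with
  | nil => exact h0
  | cons i w ih =>
    exact h i (hw i (List.mem_cons_self ..)) _ _ (ih fun j hj => hw j (List.mem_cons_of_mem _ hj))

variable {F : Type u} [Field F] [Fintype F] (hF : Fintype.card F = 4)
include hF

/-- **The double cover**, from the checks. -/
theorem exists_cover_of (hperm : ∀ r < 12, permK r = true)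
    (hreps : ∀ p ∈ reps, relK p.1 p.2 = true) (hadd : addK 7 = true ∧ addK 6 = true)
    (hconj : ∀ i < 2, ∀ r < 12, conjK i r = true) (hcov : coverK = true) (hnt : nontrivK = true) :
    ∃ (Γ : Type u) (_ : Group Γ) (_ : Finite Γ) (σ : Γ →* ↥(chevG2.group F)),
      Cfsg.IsStemExtension σ ∧ Nonempty (σ.ker ≃* Multiplicative (ZMod 2)) := by
  classical
  obtain ⟨ν, hν, -, hν0, hν1, hνs, hνadd, hνmul⟩ := exists_val hF
  have hD := packG2.comm.toGood
  let f : Fin chevG2.nroots × F → Equiv.Perm (Fin 8064) := fun p => P hperm p.1 (ν p.2)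
  set Γ₀ := Subgroup.closure (Set.range f)
  have hmemP : ∀ (r : Fin 12) (e : ℕ), P hperm r e ∈ Γ₀ := fun r e => by
    obtain ⟨x, hx⟩ := hνs (e % 4) (Nat.mod_lt _ (by norm_num))
    rw [P_mod, ← hx]
    exact Subgroup.subset_closure ⟨(r, x), rfl⟩
  have hcomm : ∀ g ∈ Γ₀, Commute zeta g := fun g hg => by
    induction hg using Subgroup.closure_induction with
    | mem x hx => obtain ⟨p, rfl⟩ := hx; exact P_comm hperm _ _
    | one => exact Commute.one_right _
    | mul a b _ _ ha hb => exact ha.mul_right hb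
    | inv a _ ha => exact ha.inv_right
  let gen : ℕ → ℕ → ↥Γ₀ := fun r e => if hr : r < 12 then ⟨P hperm ⟨r, hr⟩ e, hmemP _ _⟩ else 1
  have hgen : ∀ {r : ℕ} (hr : r < 12) (e : ℕ),
      (gen r e : Equiv.Perm (Fin 8064)) = P hperm ⟨r, hr⟩ e := fun hr e => by simp [gen, hr]
  simp only [nontrivK, Bool.and_eq_true, forceN_eq, kallUpTo_iff, kanyUpTo_iff, Nat.beq_eq,
    Bool.not_eq_true', ← Bool.not_eq_true] at hnt
  obtain ⟨hz0, b₀, hb₀, hmove⟩ := hnt
  have hzeta : ((⁅gen 9 1, gen 9 2⁆ : ↥Γ₀) : Equiv.Perm (Fin 8064)) = zeta := by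
    have h : P hperm ⟨9, by decide⟩ 1 * P hperm ⟨9, by decide⟩ 2 =
        zeta * (P hperm ⟨9, by decide⟩ 2 * P hperm ⟨9, by decide⟩ 1) :=
      Equiv.ext fun i => Fin.ext (hz0 i i.2)
    have e : ((⁅gen 9 1, gen 9 2⁆ : ↥Γ₀) : Equiv.Perm (Fin 8064)) =
        ⁅P hperm ⟨9, by decide⟩ 1, P hperm ⟨9, by decide⟩ 2⁆ := by
      rw [← hgen (show 9 < 12 by decide) 1, ← hgen (show 9 < 12 by decide) 2]
      rfl
    rw [e, commutatorElement_def, h]
    group
  have hzm : zeta ∈ Γ₀ := hzeta ▸ (⁅gen 9 1, gen 9 2⁆).2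
  let z : ↥Γ₀ := ⟨zeta, hzm⟩
  have hzc : Subgroup.zpowers z ≤ Subgroup.center ↥Γ₀ := by
    rw [Subgroup.zpowers_le, Subgroup.mem_center_iff]
    exact fun g => Subtype.ext (hcomm g g.2).eq.symm
  haveI : (Subgroup.zpowers z).Normal := ⟨fun n hn g => by
    rwa [Subgroup.mem_center_iff.1 (hzc hn) g, mul_inv_cancel_right]⟩
  let q : ↥Γ₀ →* ↥Γ₀ ⧸ Subgroup.zpowers z := QuotientGroup.mk' _
  let X : ℕ → ℕ → ↥Γ₀ ⧸ Subgroup.zpowers z := fun r e => q (gen r e)
  let ev' : List (ℕ × ℕ) → ↥Γ₀ ⧸ Subgroup.zpowers z := fun w => (w.map fun p => X p.1 p.2).prod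
  have hword : ∀ w : List (ℕ × ℕ), (∀ p ∈ w, p.1 < 12) → constK w = true → ev' w = 1 := by
    intro w hw hk
    let W : List (Fin 12 × ℕ) := w.pmap (fun p hp => (⟨p.1, hp⟩, p.2)) hw
    have hWw : W.map (fun p => (p.1.val, p.2)) = w := by
      simp [W, List.map_pmap, List.pmap_eq_map]
    have hm := wordP_mem hperm W (by rwa [hWw])
    have e1 : ev' w = q (W.map fun p => gen p.1.val p.2).prod := by
      rw [map_list_prod, List.map_map]
      conv_lhs => rw [← hWw]
      simp only [ev', List.map_map]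
      rfl
    have e2 : ((W.map fun p => gen p.1.val p.2).prod : ↥Γ₀).val = wordP hperm W := by
      rw [← Subgroup.coe_subtype, map_list_prod, List.map_map, wordP]
      refine congrArg List.prod (List.map_congr_left fun p _ => ?_)
      exact hgen p.1.2 p.2
    obtain ⟨k, hk'⟩ := hm
    rw [e1]
    exact (QuotientGroup.eq_one_iff _).2 ⟨k, Subtype.ext (by rw [SubgroupClass.coe_zpow, e2]; exact hk')⟩
  have hmod : ∀ r e, X r e = X r (e % 4) := fun r e => by
    by_cases hr : r < 12
    · exact congrArg q (Subtype.ext (by rw [hgen hr, hgen hr, P_mod]))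
    · simp only [X, gen, dif_neg hr]
  have hsq : ∀ r e, X r e * X r e = 1 := fun r e => by
    by_cases hr : r < 12
    · rw [hmod]
      have h := hperm r hr
      simp only [permK, kallUpTo_iff, Bool.and_eq_true] at h
      simpa [ev'] using hword [(r, e % 4), (r, e % 4)] (by simp [hr]) (h _ (Nat.mod_lt _ (by norm_num))).1
    · simp [X, gen, hr]
  have hinv : ∀ r e, (X r e)⁻¹ = X r e := fun r e => inv_eq_of_mul_eq_one_right (hsq r e)
  simp only [coverK, Bool.and_eq_true, Bool.or_eq_true, kall_iff, kany_iff, kallUpTo_iff,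
    Nat.blt_eq, Nat.beq_eq, beq_iff_eq, Bool.not_eq_true', ← Bool.not_eq_true] at hcov
  obtain ⟨⟨⟨⟨hwords, hsig⟩, hterms⟩, hroots⟩, hpairs⟩ := hcov
  have hn : ∀ i < 2, ∃ n, ∀ r < 12, ∀ e, X (sig i r) e = n * X r e * n⁻¹ := by
    intro i hi
    have ha : simp2 i < 12 ∧ 11 - simp2 i < 12 :=
      (show ∀ i < 2, simp2 i < 12 ∧ 11 - simp2 i < 12 by decide) i hi
    set a := simp2 i with ha_def
    refine ⟨X a 1 * X (11 - a) 1 * X a 1, fun r hr e => ?_⟩
    rw [hmod (sig i r), hmod r]
    have h := hconj i hi r hr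
    simp only [conjK, forceN_eq, kallUpTo_iff, ← ha_def] at h
    have := hword _ (by simp [ha.1, ha.2, hr, hsig i hi r hr]) (h (e % 4) (Nat.mod_lt _ (by norm_num)))
    simp only [ev', List.map_cons, List.map_nil, List.prod_cons, List.prod_nil, mul_one] at this
    rw [mul_inv_rev, mul_inv_rev, hinv, hinv, ← hinv (sig i r)]
    exact inv_eq_of_mul_eq_one_left (by simpa only [mul_assoc] using this)
  let AddGood : ℕ → Prop := fun r => r < 12 ∧
    ∀ t < 4, ∀ u < 4, X r t * X r u * X r (t ^^^ u) = 1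
  have haddgood : ∀ r < 12, AddGood r := by
    intro r hr
    obtain ⟨w, hw, hwr⟩ := hroots r hr
    have step : ∀ i < 2, ∀ r s : ℕ, AddGood r → AddGood (sig i r) := fun i hi r _ ⟨hr, h⟩ => by
      refine ⟨hsig i hi r hr, fun t ht u hu => ?_⟩
      obtain ⟨n, hn⟩ := hn i hi
      rw [hn r hr, hn r hr, hn r hr, show n * X r t * n⁻¹ * (n * X r u * n⁻¹) *
        (n * X r (t ^^^ u) * n⁻¹) = n * (X r t * X r u * X r (t ^^^ u)) * n⁻¹ by group, h t ht u hu]
      group
    have base : ∀ a < 12, addK a = true → AddGood a := fun a ha h => by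
      simp only [addK, kallUpTo_iff] at h
      exact ⟨ha, fun t ht u hu => by
        simpa [ev', mul_assoc] using hword _ (by simp [ha]) (h t ht u hu)⟩
    rcases hwr with e | e <;> rw [← e] <;>
      refine foldr_induction (P := fun r _ => AddGood r) (fun i hi r s h => step i hi r s h)
        (hwords w hw) (s := r) ?_
    exacts [base 7 (by norm_num) hadd.1, base 6 (by norm_num) hadd.2]
  let Good : ℕ → ℕ → Prop := fun r s => r < 12 ∧ s < 12 ∧ s ≠ r ∧ s ≠ 11 - r ∧
    ∀ t < 4, ∀ u < 4, ev' (relW r s t u) = 1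
  have hgood : ∀ r < 12, ∀ s < 12, s ≠ r → s ≠ 11 - r → Good r s := by
    intro r hr s hs h1 h2
    obtain ⟨p, hp, w, hw, e1, e2⟩ := ((hpairs r hr s hs).resolve_left fun e => e.elim h1 h2)
    rw [← e1, ← e2]
    refine foldr_induction (P := Good) (fun i hi r s ⟨hr, hs, h1, h2, h⟩ => ?_) (hwords w hw) ?_
    · obtain ⟨⟨⟨hmap, h1'⟩, h2'⟩, hlt⟩ := (hterms i hi r hr s hs).resolve_left fun e => e.elim h1 h2
      refine ⟨hsig i hi r hr, hsig i hi s hs, h1', h2', fun t ht u hu => ?_⟩
      obtain ⟨n, hn⟩ := hn i hi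
      have e : relW (sig i r) (sig i s) t u = (relW r s t u).map fun p => (sig i p.1, p.2) := by
        simp only [relW, ← hmap, List.map_append, List.map_cons, List.map_nil, ← List.map_reverse,
          List.map_map]
        rfl
      have hl : ∀ p ∈ relW r s t u, p.1 < 12 := by
        intro p hp
        simp only [relW, List.mem_append, List.mem_cons, List.not_mem_nil, or_false, List.mem_map,
          List.mem_reverse] at hp
        rcases hp with (rfl | rfl | rfl | rfl) | ⟨c, hc, rfl⟩ <;> first | assumption | exact hlt c hc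
      have := congrArg (MulAut.conj n) (h t ht u hu)
      rw [map_one, map_list_prod] at this
      rw [e]
      refine Eq.trans ?_ this
      simp only [ev', List.map_map]
      refine congrArg List.prod (List.map_congr_left fun p hp => ?_)
      exact hn p.1 (hl p hp) p.2
    · have hpl : p.1 < 12 ∧ p.2 < 12 ∧ p.2 ≠ p.1 ∧ p.2 ≠ 11 - p.1 ∧
          ∀ c ∈ oddTerms p.1 p.2, c.1 < 12 := by
        have hb : ∀ p ∈ reps, p.1 < 12 ∧ p.2 < 12 ∧ p.2 ≠ p.1 ∧ p.2 ≠ 11 - p.1 := by decide
        obtain ⟨a, b, c, d⟩ := hb p hp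
        exact ⟨a, b, c, d,
          ((hterms 0 (by norm_num) _ a _ b).resolve_left fun e => e.elim c d).2⟩
      obtain ⟨a, b, c, d, hlt⟩ := hpl
      refine ⟨a, b, c, d, fun t ht u hu => hword _ ?_ ?_⟩
      · intro x hx
        simp only [relW, List.mem_append, List.mem_cons, List.not_mem_nil, or_false, List.mem_map,
          List.mem_reverse] at hx
        rcases hx with (rfl | rfl | rfl | rfl) | ⟨c, hc, rfl⟩ <;> first | assumption | exact hlt c hc
      · have h := hreps p hp
        simp only [relK, kallUpTo_iff] at h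
        exact h t ht u hu
  have hX0 : ∀ r < 12, X r 0 = 1 := fun r hr => by
    have := (haddgood r hr).2 0 (by norm_num) 0 (by norm_num)
    rwa [show (0 ^^^ 0 : ℕ) = 0 from rfl, hsq, one_mul] at this
  let f' : Fin chevG2.nroots × F → ↥Γ₀ := fun p => ⟨f p, Subgroup.subset_closure ⟨p, rfl⟩⟩
  have hX : ∀ (r : ℕ) (_ : r < 12) (t : F),
      FreeGroup.lift (fun p => q (f' p)) (chevG2.stX r t) = X r (ν t) := fun r hr t => by
    rw [ChevalleyDatum.stX, dif_pos (show r < chevG2.nroots from hr), FreeGroup.lift_apply_of]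
    exact congrArg q (Subtype.ext (hgen hr _).symm)
  have hrel : ∀ g ∈ chevG2.steinbergRelsAB F, FreeGroup.lift (fun p => q (f' p)) g = 1 := by
    intro g hg
    rcases hg with ⟨r, t, u, hr, rfl⟩ | ⟨r, s, t, u, hr, hs, h1, h2, rfl⟩
    · rw [map_mul, map_mul, map_inv, hX r hr, hX r hr, hX r hr, hinv, hνadd]
      exact (haddgood r hr).2 _ (hν t) _ (hν u)
    · have hs' : s ≠ 11 - r := fun e => h2 (e.trans (packG2.dok.neg_eq hr).symm)
      have h := (hgood r hr s hs h1 hs').2.2.2.2 (ν t) (hν t) (ν u) (hν u)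
      refine Eq.trans ?_ h
      simp only [map_mul, map_inv, hX r hr, hX s hs, hinv, ev', relW, List.map_append, List.map_cons,
        List.map_nil, List.prod_append, List.prod_cons, List.prod_nil, mul_one, ← mul_assoc]
      congr 1
      rw [ChevalleyDatum.stWord, ChevalleyDatum.commWord, map_list_prod, List.prod_inv_reverse,
        oddTerms, ← List.filterMap_reverse]
      simp only [List.map_map, ← List.map_reverse]
      have hpow : ∀ (x : F) (n : ℕ), ν (x ^ n) = powF (ν x) n := fun x n => by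
        induction n with
        | zero => rw [pow_zero, hν1, powF]
        | succ n ih => rw [pow_succ, hνmul, ih, powF]
      have hl : ∀ c ∈ (chevG2.commTerms r s).reverse, c.1 < 12 := fun c hc =>
        (hD.commTerms_coef hr hs (c := c) (List.mem_reverse.1 hc)).1
      generalize (chevG2.commTerms r s).reverse = L at hl
      induction L with
      | nil => rfl
      | cons c L ih =>
        have ih' := ih fun x hx => hl x (List.mem_cons_of_mem _ hx)
        have hc := hl c (List.mem_cons_self ..)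
        rw [List.map_cons, List.prod_cons, ih', List.filterMap_cons]
        rcases eq_or_ne (c.2.1 % 2) 0 with hev | hodd
        · have h0 : (c.2.1 : F) = 0 := by
            rw [← Int.emod_add_mul_ediv c.2.1 2, hev]
            push_cast
            rw [L34.two_zero hF, zero_mul, add_zero]
          simp only [hev, beq_self_eq_true, cond_true, Function.comp_apply]
          rw [hX _ hc, hinv, h0, zero_mul, zero_mul, hν0, hX0 _ hc, one_mul]
        · have h1' : (c.2.1 : F) = 1 := by
            rw [← Int.emod_add_mul_ediv c.2.1 2, show c.2.1 % 2 = 1 by omega]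
            push_cast
            rw [L34.two_zero hF, zero_mul, add_zero]
          simp only [beq_eq_false_iff_ne.2 hodd, cond_false, Function.comp_apply, List.map_cons,
            List.prod_cons]
          rw [hX _ hc, hinv, h1', one_mul, hνmul, hpow, hpow,
            show -t = t by linear_combination -(L34.add_self hF t)]
  let θ : chevG2.SteinbergCover F →* ↥Γ₀ ⧸ Subgroup.zpowers z := PresentedGroup.toGroup hrel
  let e := MulEquiv.ofBijective _ (G23.scData_bijective (F := F))
  let ψ : ↥(chevG2.group F) →* ↥Γ₀ ⧸ Subgroup.zpowers z := θ.comp e.symm.toMonoidHom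
  have hψs : Function.Surjective ψ := by
    refine fun x => ?_
    suffices x ∈ θ.range by
      obtain ⟨y, hy⟩ := this
      exact ⟨e y, by simp [ψ, hy]⟩
    obtain ⟨g, rfl⟩ := QuotientGroup.mk'_surjective _ x
    obtain ⟨g, hg⟩ := g
    induction hg using Subgroup.closure_induction with
    | mem x hx =>
      obtain ⟨p, rfl⟩ := hx
      exact ⟨PresentedGroup.of p, PresentedGroup.toGroup.of hrel⟩
    | one => exact one_mem θ.range
    | mul a b _ _ ha hb => exact mul_mem ha hb
    | inv a _ ha => exact inv_mem ha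
  obtain ⟨hsimple, -⟩ := TypeG2.isSimple F (by
    obtain ⟨a, ha⟩ := Finset.exists_mem_notMem_of_card_lt_card (s := ({0, 1} : Finset F))
      (t := Finset.univ) (lt_of_le_of_lt Finset.card_le_two (by rw [Finset.card_univ, hF]; norm_num))
    simp only [Finset.mem_insert, Finset.mem_singleton, not_or] at ha
    exact ⟨a, ha.2⟩)
  have hne : X 7 1 ≠ 1 := by
    intro h
    obtain ⟨k, hk⟩ := (QuotientGroup.eq_one_iff _).1 h
    have hk' : zeta ^ k = P hperm ⟨7, by decide⟩ 1 :=
      (congrArg Subtype.val hk).trans (hgen (by decide) 1)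
    refine hmove ?_
    have hblock : ∀ (m : ℤ) (i : Fin 8064), ((zeta ^ m) i : Nat) / 2 = i / 2 := by
      intro m
      induction m with
      | zero => intro i; rfl
      | succ m ih =>
        intro i
        rw [zpow_add_one, Equiv.Perm.mul_apply, ih]
        show cyc i / 2 = i / 2
        rw [cyc_eq]; split_ifs <;> omega
      | pred m ih =>
        intro i
        rw [zpow_sub_one, Equiv.Perm.mul_apply, ih]
        show cyc i / 2 = i / 2
        rw [cyc_eq]; split_ifs <;> omega
    have := hblock k ⟨2 * b₀, by omega⟩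
    rw [hk'] at this
    show img 7 1 (2 * b₀) / 2 = b₀
    rw [show img 7 1 (2 * b₀) / 2 = 2 * b₀ / 2 from this]
    omega
  have hψi : Function.Injective ψ := by
    rw [← MonoidHom.ker_eq_bot_iff]
    refine (hsimple.eq_bot_or_eq_top_of_normal _ inferInstance).resolve_right fun h => hne ?_
    obtain ⟨y, hy⟩ := hψs (X 7 1)
    rw [← hy, ← MonoidHom.mem_ker, h]
    trivial
  let σ : ↥Γ₀ →* ↥(chevG2.group F) := (MulEquiv.ofBijective ψ ⟨hψi, hψs⟩).symm.toMonoidHom.comp q
  have hker : σ.ker = Subgroup.zpowers z := by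
    ext x
    exact ((MulEquiv.ofBijective ψ ⟨hψi, hψs⟩).symm.map_eq_one_iff (x := q x)).trans
      (QuotientGroup.eq_one_iff x)
  refine ⟨ULift.{u} ↥Γ₀, inferInstance, inferInstance, σ.comp MulEquiv.ulift.toMonoidHom,
    ⟨fun g => ?_, ?_, ?_⟩, ?_⟩
  · obtain ⟨x, hx⟩ := (MulEquiv.ofBijective ψ ⟨hψi, hψs⟩).symm.surjective g
    obtain ⟨y, rfl⟩ := QuotientGroup.mk'_surjective _ x
    exact ⟨ULift.up y, hx⟩
  · intro x hx
    have hx' : x.down ∈ Subgroup.zpowers z := hker ▸ hx
    exact Subgroup.mem_center_iff.2 fun y =>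
      ULift.ext _ _ (Subgroup.mem_center_iff.1 (hzc hx') y.down)
  · intro x hx
    obtain ⟨k, hk⟩ : x.down ∈ Subgroup.zpowers z := hker ▸ hx
    have : x = ⁅(ULift.up (gen 9 1) : ULift.{u} ↥Γ₀), ULift.up (gen 9 2)⁆ ^ k := by
      refine ULift.ext _ _ ?_
      show x.down = ⁅gen 9 1, gen 9 2⁆ ^ k
      rw [show ⁅gen 9 1, gen 9 2⁆ = z from Subtype.ext hzeta]
      exact hk.symm
    rw [this]
    exact zpow_mem (Subgroup.commutator_mem_commutator (Subgroup.mem_top _) (Subgroup.mem_top _)) k
  · have hcard : Nat.card (σ.comp MulEquiv.ulift.toMonoidHom).ker = 2 := by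
      have e1 : (σ.comp MulEquiv.ulift.toMonoidHom).ker =
          (Subgroup.zpowers z).comap MulEquiv.ulift.toMonoidHom := by
        rw [← hker]; rfl
      rw [e1, Nat.card_congr (⟨fun x => ⟨x.1.down, x.2⟩, fun y => ⟨⟨y.1⟩, y.2⟩, fun _ => rfl,
        fun _ => rfl⟩ : ((Subgroup.zpowers z).comap MulEquiv.ulift.toMonoidHom : Subgroup (ULift.{u} ↥Γ₀)) ≃
          Subgroup.zpowers z), Nat.card_zpowers]
      haveI := Fact.mk Nat.prime_two
      refine orderOf_eq_prime (Subtype.ext ?_) fun h => ?_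
      · show zeta ^ 2 = 1
        exact Equiv.ext fun i => Fin.ext (cyc_cyc i)
      have h' : zeta = 1 := congrArg Subtype.val h
      have h0 := congrArg (fun g : Equiv.Perm (Fin 8064) => (g 0 : Nat)) h'
      exact absurd h0 (by decide)
    haveI := Fact.mk Nat.prime_two
    exact ⟨mulEquivOfPrimeCardEq (p := 2) hcard (by simp)⟩

end Cfsg.Agent.Mult93.G24
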