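import Cfsg.Agent.Mult93.G24.Check

/-!
The permutations as a group in which the relators of Steinberg are central (helper93).
-/

set_option autoImplicit false

namespace Cfsg.Agent.Mult93.G24

open Cfsg.Lie Cfsg.Agent.ChevCore

theorem cyc_eq (i : Nat) : cyc i = if i % 2 = 0 then i + 1 else i - 1 := by
  rcases eq_or_ne (i % 2) 0 with h | h
  · simp [cyc, h]
  · have hb : Nat.beq (i % 2) 0 = false := by rw [← Bool.not_eq_true, Nat.beq_eq]; exact h
    simp [cyc, hb, h]

theorem cyc_cyc (i : Nat) : cyc (cyc i) = i := by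
  simp only [cyc_eq]; split_ifs <;> omega

theorem cyc_lt {i : Nat} (hi : i < 8064) : cyc i < 8064 := by
  simp only [cyc_eq]; split_ifs <;> omega

theorem step_eq (T i : Nat) : step T i =
    if i % 2 = 0 then (T >>> (16 * (i / 2))) &&& 65535 else cyc ((T >>> (16 * (i / 2))) &&& 65535) := by
  rcases eq_or_ne (i % 2) 0 with h | h
  · simp [step, h]
  · have hb : Nat.beq (i % 2) 0 = false := by rw [← Bool.not_eq_true, Nat.beq_eq]; exact h
    simp [step, hb, h]

theorem step_cyc (T i : Nat) : step T (cyc i) = cyc (step T i) := by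
  rcases eq_or_ne (i % 2) 0 with h | h
  · rw [cyc_eq i, if_pos h, step_eq, step_eq, if_neg (by omega), if_pos h,
      show (i + 1) / 2 = i / 2 by omega]
  · rw [cyc_eq i, if_neg h, step_eq, step_eq, if_pos (by omega), if_neg h, cyc_cyc,
      show (i - 1) / 2 = i / 2 by omega]

theorem withTabs_eq (w : List (Nat × Nat)) (k : List Nat → Bool) :
    withTabs w k = k (w.map fun p => tab p.1 p.2) := by
  induction w generalizing k with
  | nil => rfl
  | cons p w ih => rw [withTabs, forceN_eq, ih]; rfl

/-- image under a word -/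
noncomputable def ev (w : List (Nat × Nat)) (i : Nat) : Nat := evT (w.map fun p => tab p.1 p.2) i

theorem ev_nil (i : Nat) : ev [] i = i := rfl

theorem ev_cons (p : Nat × Nat) (w : List (Nat × Nat)) (i : Nat) :
    ev (p :: w) i = img p.1 p.2 (ev w i) := by
  simp [ev, evT, img, forceN_eq]

theorem constK_iff (w : List (Nat × Nat)) :
    constK w = true ↔ ev w 0 < 2 ∧ ∀ b < 4032, ev w (2 * b) = 2 * b + ev w 0 := by
  simp only [constK, withTabs_eq, forceN_eq, Bool.and_eq_true, Nat.blt_eq, kallUpTo_iff,
    Nat.beq_eq, ev]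

section
variable (hperm : ∀ r < 12, permK r = true)
include hperm

omit hperm in
theorem tab_mod (r e : Nat) : tab r e = tab r (e % 4) := by
  simp [tab, slot]

theorem img_lt {r : Nat} (hr : r < 12) (e : Nat) {i : Nat} (hi : i < 8064) : img r e i < 8064 := by
  have h := hperm r hr
  simp only [permK, kallUpTo_iff, forceN_eq, Bool.and_eq_true, Nat.blt_eq] at h
  have hT := (h (e % 4) (Nat.mod_lt _ (by norm_num))).2 (i / 2) (by omega)
  rw [← tab_mod r e] at hT
  rw [img, step_eq]
  split_ifs
  · exact hT
  · exact cyc_lt hT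

theorem sq_point {r : Nat} (hr : r < 12) (e : Nat) :
    ∃ k < 2, ∀ i < 8064, img r e (img r e i) = if k = 0 then i else cyc i := by
  have h := hperm r hr
  simp only [permK, kallUpTo_iff, forceN_eq, Bool.and_eq_true, constK_iff] at h
  obtain ⟨⟨hk, hall⟩, -⟩ := h (e % 4) (Nat.mod_lt _ (by norm_num))
  refine ⟨_, hk, fun i hi => ?_⟩
  set k := ev [(r, e % 4), (r, e % 4)] 0
  have hb := hall (i / 2) (by omega)
  simp only [ev_cons, ev_nil] at hb
  have e' : ∀ j, img r (e % 4) j = img r e j := fun j => by rw [img, img, ← tab_mod r e]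
  rw [e', e'] at hb
  rcases eq_or_ne (i % 2) 0 with hev | hev
  · rw [show 2 * (i / 2) = i by omega] at hb
    rw [hb, cyc_eq, if_pos hev]
    split_ifs <;> omega
  · have : i = cyc (2 * (i / 2)) := by rw [cyc_eq, if_pos (by omega)]; omega
    conv_lhs => rw [this]
    rw [img, img, step_cyc, step_cyc, ← img, ← img, hb, cyc_eq, cyc_eq i, if_neg hev]
    split_ifs <;> omega

/-- The permutation of `(r, e)`. -/
noncomputable def P (r : Fin 12) (e : Nat) : Equiv.Perm (Fin 8064) :=
  Equiv.ofBijective (fun i => ⟨img r e i, img_lt hperm r.2 e i.2⟩)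
    (Finite.injective_iff_bijective.1 fun i j hij => by
      obtain ⟨k, -, hk⟩ := sq_point hperm r.2 e
      have h := congrArg (fun x : Fin 8064 => img r e x) hij
      rw [show img r e (img r e i) = _ from hk i i.2, show img r e (img r e j) = _ from hk j j.2] at h
      refine Fin.ext ?_
      split_ifs at h
      · exact h
      · exact cyc_cyc i ▸ cyc_cyc j ▸ congrArg cyc h)

theorem P_apply (r : Fin 12) (e : Nat) (i : Fin 8064) : (P hperm r e i : Nat) = img r e i := rfl

theorem P_mod (r : Fin 12) (e : Nat) : P hperm r e = P hperm r (e % 4) :=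
  Equiv.ext fun i => Fin.ext (by rw [P_apply, P_apply, img, img, ← tab_mod r e])

/-- The central permutation. -/
def zeta : Equiv.Perm (Fin 8064) where
  toFun i := ⟨cyc i, cyc_lt i.2⟩
  invFun i := ⟨cyc i, cyc_lt i.2⟩
  left_inv i := Fin.ext (cyc_cyc i)
  right_inv i := Fin.ext (cyc_cyc i)

theorem P_comm (r : Fin 12) (e : Nat) : Commute zeta (P hperm r e) :=
  Equiv.ext fun i => Fin.ext (step_cyc _ _).symm

/-- the product of a word -/
noncomputable def wordP (w : List (Fin 12 × Nat)) : Equiv.Perm (Fin 8064) :=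
  (w.map fun p => P hperm p.1 p.2).prod

theorem wordP_apply (w : List (Fin 12 × Nat)) (i : Fin 8064) :
    (wordP hperm w i : Nat) = ev (w.map fun p => (p.1.val, p.2)) i := by
  induction w generalizing i with
  | nil => rfl
  | cons p w ih =>
    simp only [wordP, List.map_cons, List.prod_cons, Equiv.Perm.mul_apply, ev_cons, P_apply]
    rw [← ih]
    rfl

theorem commute_wordP (w : List (Fin 12 × Nat)) : Commute zeta (wordP hperm w) :=
  Commute.list_prod_right _ _ fun x hx => by
    obtain ⟨p, -, rfl⟩ := List.mem_map.1 hx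
    exact P_comm hperm _ _

theorem wordP_mem (w : List (Fin 12 × Nat)) (h : constK (w.map fun p => (p.1.val, p.2)) = true) :
    wordP hperm w ∈ Subgroup.zpowers zeta := by
  rw [constK_iff] at h
  obtain ⟨hk, hall⟩ := h
  set k := ev (w.map fun p => (p.1.val, p.2)) 0
  refine ⟨(k : ℤ), Equiv.ext fun i => ?_⟩
  have hbase : ∀ b : Fin 8064, b.val % 2 = 0 → (zeta ^ k) b = wordP hperm w b := by
    intro b hb
    refine Fin.ext ?_
    have := hall (b.val / 2) (by omega)
    rw [show 2 * (b.val / 2) = b.val by omega] at this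
    rw [wordP_apply, this]
    interval_cases k
    · rfl
    · show cyc b = b + 1
      rw [cyc_eq, if_pos hb]
  show ((zeta : Equiv.Perm (Fin 8064)) ^ (k : ℤ)) i = _
  rw [zpow_natCast]
  by_cases hi : i.val % 2 = 0
  · exact hbase i hi
  · have hb : (zeta i).val % 2 = 0 := by
      show cyc i % 2 = 0
      rw [cyc_eq, if_neg hi]; omega
    have hzz : zeta (zeta i) = i := Fin.ext (cyc_cyc i)
    have e1 : ∀ j, (zeta ^ k) (zeta j) = zeta ((zeta ^ k) j) := fun j =>
      congrFun (congrArg (fun g : Equiv.Perm (Fin 8064) => (g : Fin 8064 → Fin 8064))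
        ((Commute.refl zeta).pow_left k).eq) j
    have e2 : ∀ j, wordP hperm w (zeta j) = zeta (wordP hperm w j) := fun j =>
      congrFun (congrArg (fun g : Equiv.Perm (Fin 8064) => (g : Fin 8064 → Fin 8064))
        (commute_wordP hperm w).eq.symm) j
    rw [← hzz, e1, e2]
    exact congrArg zeta (hbase _ hb)

end

end Cfsg.Agent.Mult93.G24
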