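import Cfsg.Agent.Mult93.L34.Cocycle
import Cfsg.Agent.KnownSimple.Steinberg.Gen.Bracket
import Cfsg.Agent.KnownSimple.Steinberg.Gen.MultG2

/-!
The commutator formula on the pairs of long roots over the field with four elements (helper93).
-/

set_option autoImplicit false

namespace Cfsg.Agent.Mult93.G24

open Cfsg Cfsg.Lie Cfsg.Agent.ChevCore Cfsg.Agent.ChevGroup
open Cfsg.Agent.KnownSimple.Steinberg Cfsg.Agent.KnownSimple.Steinberg.Gen
open scoped commutatorElement

universe u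

/-- Weyl words reaching every element of the Weyl group -/
def words : List (List ℕ) := [[], [0], [1], [1, 0], [0, 1], [0, 1, 0], [1, 0, 1], [1, 0, 1, 0],
  [0, 1, 0, 1], [0, 1, 0, 1, 0], [1, 0, 1, 0, 1], [1, 0, 1, 0, 1, 0]]

/-- `r` is an image of the short root `9` -/
noncomputable def shortK (r : ℕ) : Bool :=
  kanyUpTo 12 fun k => Nat.beq (actW chevG2 (words.getD k []) 9) r

/-- `(r, s)` is an image of the pair `(5, 11)` in some order -/
noncomputable def longK (r s : ℕ) : Bool :=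
  kanyUpTo 12 fun k => forceN k fun k =>
    (Nat.beq (actW chevG2 (words.getD k []) 5) r && Nat.beq (actW chevG2 (words.getD k []) 11) s) ||
      (Nat.beq (actW chevG2 (words.getD k []) 5) s && Nat.beq (actW chevG2 (words.getD k []) 11) r)

/-- the certificate -/
noncomputable def boundK : Bool :=
  (kallUpTo 12 fun k => kall (words.getD k []) fun i => Nat.blt i 2) &&
  commK chevG2 (std chevG2) 3 2 true &&
  kallUpTo 12 fun r => forceN r fun r =>
    scalM chevG2 3 r &&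
    (shortK r || kanyUpTo 12 fun a => kanyUpTo 12 fun b =>
      witM (std chevG2) 2 (fun x y => sepM chevG2 3 x y) r r a b) &&
    kallUpTo 12 fun s => forceN s fun s =>
      Nat.beq s r || Nat.beq s (chevG2.neg r) ||
        (pairK chevG2 (std chevG2) r s &&
          (sepM chevG2 3 r s || (commW (std chevG2) r s).isEmpty ||
            (longK r s && Nat.beq (commW (std chevG2) r s).length 1 &&
              Nat.beq (headW (std chevG2) r s).2.2.1 1 && Nat.beq (headW (std chevG2) r s).2.2.2 1 &&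
              !(zEq ((headW (std chevG2) r s).2.1 % 2) 0) &&
              fixK (std chevG2) r (headW (std chevG2) r s).1 &&
              fixK (std chevG2) s (headW (std chevG2) r s).1)))

theorem boundK_eq : boundK = true := by decide +kernel

variable {F : Type*} [Field F] [Fintype F] (hF : Fintype.card F = 4)
include hF

theorem odd_cast {z : ℤ} (hz : z % 2 ≠ 0) : (z : F) = 1 := by
  rw [← Int.emod_add_mul_ediv z 2, show z % 2 = 1 by omega]
  push_cast
  rw [L34.two_zero hF, zero_mul, add_zero]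

theorem neg_self (x : F) : -x = x := by linear_combination -(L34.add_self hF x)

theorem eta_one (w : List ℕ) (r : ℕ) : (etaWord chevG2 w r : F) = 1 :=
  odd_cast hF (by
    rcases Int.eq_one_or_neg_one_of_mul_eq_one (Good.etaWord_sq (D := chevG2) w r) with e | e <;>
      rw [e] <;> decide)

variable {Γ : Type*} [Group Γ] (E : CExt chevG2 F Γ)
  (hcomm : ∀ r < chevG2.nroots, ∀ s < chevG2.nroots,
    (s = r ∨ (s ≠ chevG2.neg r ∧ chevG2.commTerms r s = [])) →
      ∀ u v, Commute (E.ℓ r u) (E.ℓ s v))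
include hcomm

/-- the bracket of the two long roots is that of two short ones -/
theorem long_eq_short (a t u : F) :
    ⁅E.ℓ 5 a, E.ℓ 11 (t * u)⁆ = ⁅E.ℓ 7 (a * t), E.ℓ 9 u⁆ := by
  have hC : CommGood chevG2 := packG2.comm
  have hD := hC.toGood
  have h5 : 5 < chevG2.nroots := by decide
  have h7 : 7 < chevG2.nroots := by decide
  have h8 : 8 < chevG2.nroots := by decide
  have h9 : 9 < chevG2.nroots := by decide
  have h10 : 10 < chevG2.nroots := by decide
  have h11 : 11 < chevG2.nroots := by decide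
  have e89 : chevG2.commTerms 8 9 = [(11, 3, 1, 1)] := by decide +kernel
  have e58 : chevG2.commTerms 5 8 =
      [(7, 1, 1, 1), (9, -1, 1, 2), (11, 1, 1, 3), (10, 2, 2, 3)] := by decide +kernel
  have e79 : chevG2.commTerms 7 9 = [(10, 3, 1, 1)] := by decide +kernel
  have c := fun r s (hr : r < chevG2.nroots) (hs : s < chevG2.nroots)
    (h : fixK (std chevG2) r s = true) => hcomm r hr s hs (fixK_iff.1 h)
  set x := E.ℓ 5 a
  set A := E.ℓ 8 t
  set B := E.ℓ 9 u
  have h11π : E.π ⁅A, B⁆ = E.π (E.ℓ 11 (t * u)) := by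
    rw [π_bracket_single hC E h8 h9 (by decide) (by decide +kernel) e89, E.π_ℓ 11 h11,
      odd_cast hF (by decide), one_mul]
  rw [← E.comm_congr (v := x) (v' := x) rfl h11π]
  set Z := E.ℓ 9 (((-1 : ℤ) : F) * (-(-a)) ^ 1 * t ^ 2) *
    (E.ℓ 11 (((1 : ℤ) : F) * (-(-a)) ^ 1 * t ^ 3) * E.ℓ 10 (((2 : ℤ) : F) * (-(-a)) ^ 2 * t ^ 3))
  set Ω := E.ℓ 7 (a * t) * Z
  have hA : E.π (x * A * x⁻¹) = E.π (A * Ω) := by
    rw [π_conj_moved hC E h5 h8 (by decide) (by decide +kernel), ChevalleyDatum.commWord, e58]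
    simp only [List.map_cons, List.map_nil, List.prod_cons, List.prod_nil, mul_one, Ω, Z,
      Int.cast_one, one_mul, neg_neg, pow_one, A]
  have hB : E.π (x * B * x⁻¹) = E.π B := by
    rw [map_mul, map_mul, map_inv, E.π_ℓ 5 h5, E.π_ℓ 9 h9,
      (commute_xg hC h5 h9 (fixK_iff.1 (by decide +kernel)) a u).eq, mul_inv_cancel_right]
  have hZ : Commute Z B :=
    ((c 9 9 h9 h9 (by decide +kernel) _ _).mul_left
      ((c 11 9 h11 h9 (by decide +kernel) _ _).mul_left (c 10 9 h10 h9 (by decide +kernel) _ _)))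
  have hΩ : ⁅Ω, B⁆ = ⁅E.ℓ 7 (a * t), B⁆ := by
    rw [show ⁅Ω, B⁆ = E.ℓ 7 (a * t) * ⁅Z, B⁆ * (E.ℓ 7 (a * t))⁻¹ * ⁅E.ℓ 7 (a * t), B⁆ by
      simp only [Ω, commutatorElement_def]; group, commutatorElement_eq_one_iff_commute.2 hZ]
    group
  have h10π : E.π ⁅E.ℓ 7 (a * t), B⁆ = E.π (E.ℓ 10 (a * t * u)) := by
    rw [π_bracket_single hC E h7 h9 (by decide) (by decide +kernel) e79, E.π_ℓ 10 h10,
      odd_cast hF (by decide), one_mul]
  have hAc : Commute A ⁅E.ℓ 7 (a * t), B⁆ :=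
    E.commute_congr rfl h10π (c 8 10 h8 h10 (by decide +kernel) _ _)
  have key : x * ⁅A, B⁆ * x⁻¹ = ⁅E.ℓ 7 (a * t), B⁆ * ⁅A, B⁆ := by
    rw [← MulAut.conj_apply, map_commutatorElement, MulAut.conj_apply, MulAut.conj_apply,
      E.comm_congr hA hB, show ⁅A * Ω, B⁆ = A * ⁅Ω, B⁆ * A⁻¹ * ⁅A, B⁆ by
        simp only [commutatorElement_def]; group, hΩ, hAc.eq, mul_inv_cancel_right]
  rw [show ⁅x, ⁅A, B⁆⁆ = x * ⁅A, B⁆ * x⁻¹ * ⁅A, B⁆⁻¹ from commutatorElement_def _ _, key,
    mul_inv_cancel_right]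

/-- the bracket of two long roots depends on the product only -/
theorem long_prod {r s : ℕ} (hr : r < chevG2.nroots) (hs : s < chevG2.nroots)
    (h : longK r s = true) (a b : F) : ⁅E.ℓ r a, E.ℓ s b⁆ = ⁅E.ℓ r 1, E.ℓ s (a * b)⁆ := by
  have hC : CommGood chevG2 := packG2.comm
  have hD := hC.toGood
  have h5 : ∀ a b : F, ⁅E.ℓ 5 a, E.ℓ 11 b⁆ = ⁅E.ℓ 5 1, E.ℓ 11 (a * b)⁆ := fun a b => by
    have e1 := long_eq_short hF E hcomm a 1 b
    have e2 := long_eq_short hF E hcomm 1 a b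
    rw [mul_one, one_mul] at e1
    rw [one_mul] at e2
    rw [e1, e2]
  have hK := boundK_eq
  simp only [boundK, Bool.and_eq_true, kallUpTo_iff, kall_iff, Nat.blt_eq] at hK
  simp only [longK, kanyUpTo_iff, forceN_eq, Bool.or_eq_true, Bool.and_eq_true, Nat.beq_eq] at h
  obtain ⟨k, hk, h⟩ := h
  have hw : ∀ i ∈ words.getD k [], i < chevG2.rank := fun i hi => hK.1.1 k hk i hi
  set w := words.getD k []
  have gen : ∀ (r' s' : ℕ), r' < chevG2.nroots → s' < chevG2.nroots →
      actW chevG2 w 5 = r' → actW chevG2 w 11 = s' →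
        ∀ a b, ⁅E.ℓ r' a, E.ℓ s' b⁆ = E.N w * ⁅E.ℓ 5 a, E.ℓ 11 b⁆ * (E.N w)⁻¹ := by
    intro r' s' hr' hs' e5 e11 a b
    rw [← MulAut.conj_apply, map_commutatorElement, MulAut.conj_apply, MulAut.conj_apply]
    refine E.comm_congr ?_ ?_
    · rw [E.π_ℓ r' hr', E.π_N_conj hD hw (by decide) (E.π_ℓ 5 (by decide) a), e5, eta_one hF,
        one_mul]
    · rw [E.π_ℓ s' hs', E.π_N_conj hD hw (by decide) (E.π_ℓ 11 (by decide) b), e11, eta_one hF,
        one_mul]
  rcases h with ⟨e5, e11⟩ | ⟨e5, e11⟩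
  · rw [gen r s hr hs e5 e11, gen r s hr hs e5 e11, h5 a b]
  · rw [← commutatorElement_inv, gen s r hs hr e5 e11, ← commutatorElement_inv (E.ℓ s (a * b)),
      gen s r hs hr e5 e11, h5 b a, h5 (a * b) 1, mul_one, mul_comm b a]

/-- the commutator formula for a bracket with one term which depends on the product only -/
theorem rel_single (hscal : ∀ r < chevG2.nroots, Scal E r) {r s k : ℕ} {z : ℤ}
    (hr : r < chevG2.nroots) (hs : s < chevG2.nroots) (h1 : s ≠ r) (h2 : s ≠ chevG2.neg r)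
    (e : chevG2.commTerms r s = [(k, z, 1, 1)]) (hz : z % 2 ≠ 0)
    (hck : ∀ u v, Commute (E.ℓ s u) (E.ℓ k v))
    (hprod : ∀ a b, ⁅E.ℓ r a, E.ℓ s b⁆ = ⁅E.ℓ r 1, E.ℓ s (a * b)⁆) :
    (canPre E packG2.dok hscal hcomm).Rel r s := by
  have hC : CommGood chevG2 := packG2.comm
  have hD := hC.toGood
  have hk : k < chevG2.nroots := (hD.commTerms_coef hr hs (c := (k, z, 1, 1)) (by
    show _ ∈ chevG2.commTerms r s
    rw [e]; exact List.mem_cons_self ..)).1
  let Ψ : F → Γ := fun x => ⁅E.ℓ s x, E.ℓ r 1⁆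
  have hπ : ∀ x, E.π (Ψ x) = xg chevG2 F k x := fun x => by
    show E.π ⁅_, _⁆ = _
    rw [← commutatorElement_inv, map_inv, π_bracket_single hC E hr hs h1 h2 e, odd_cast hF hz,
      one_mul, one_mul, hD.xg_inv, neg_self hF]
  have hπ' : ∀ x, E.π (Ψ x) = E.π (E.ℓ k x) := fun x => by rw [hπ, E.π_ℓ k hk]
  have hadd : ∀ x y, Ψ (x + y) = Ψ y * Ψ x := fun x y => by
    show ⁅_, _⁆ = _
    rw [E.comm_congr (v' := E.ℓ s x * E.ℓ s y) (w' := E.ℓ r 1)
      (by rw [map_mul, E.π_ℓ s hs, E.π_ℓ s hs, E.π_ℓ s hs, hD.xg_add]) rfl,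
      show ⁅E.ℓ s x * E.ℓ s y, E.ℓ r 1⁆ = E.ℓ s x * Ψ y * (E.ℓ s x)⁻¹ * Ψ x by
        simp only [Ψ, commutatorElement_def]; group,
      (E.commute_congr (v := E.ℓ s x) rfl (hπ' y) (hck x y)).eq, mul_inv_cancel_right]
  have hcan : ∀ x, canY E hscal k x = Ψ x := by
    intro x
    obtain ⟨hg, hne⟩ := (hscal k hk).choose_spec.choose_spec
    rw [canY, dif_pos hk]
    set g := (hscal k hk).choose
    set χ := (hscal k hk).choose_spec.choose
    set v := x / (χ k - 1)
    have hconj : ∀ y, g * Ψ y * g⁻¹ = Ψ (χ k * y) := by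
      intro y
      have e1 : g * Ψ y * g⁻¹ = Ψ (χ r * χ s * y) := by
        rw [← MulAut.conj_apply, map_commutatorElement, MulAut.conj_apply, MulAut.conj_apply,
          E.comm_congr (hg.conj_ℓ hs y) (hg.conj_ℓ hr 1), ← commutatorElement_inv, hprod]
        show _ = ⁅_, _⁆
        rw [show χ r * 1 * (χ s * y) = χ r * χ s * y by ring, commutatorElement_inv]
      have e2 : χ r * χ s * y = χ k * y := xg_inj packG2.dok hk (by
        rw [← hπ, ← e1, map_mul, map_mul, map_inv, hπ, hg.conj k hk])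
      rw [e1, e2]
    rw [E.comm_congr (v' := g) (w' := Ψ v) rfl (hπ' v).symm, commutatorElement_def, hconj,
      mul_inv_eq_iff_eq_mul, ← hadd]
    congr 1
    linear_combination div_mul_cancel₀ x (sub_ne_zero.2 hne)
  intro t u
  show ⁅canY E hscal s u, canY E hscal r t⁆ = _
  rw [Pre.word, ChevalleyDatum.commWord, e]
  simp only [List.map_cons, List.map_nil, List.prod_cons, List.prod_nil, mul_one, pow_one, neg_neg,
    odd_cast hF hz, one_mul]
  show _ = canY E hscal k _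
  rw [hcan, E.comm_congr (v' := E.ℓ s u) (w' := E.ℓ r t)
    (by rw [π_canY E hscal hs hD, E.π_ℓ s hs]) (by rw [π_canY E hscal hr hD, E.π_ℓ r hr]),
    ← commutatorElement_inv, hprod, commutatorElement_inv, mul_neg, neg_self hF]

end Cfsg.Agent.Mult93.G24
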